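import Mathlib
import Groth.Agent.Gor.FlatLocal

/-! Adjoining nilpotent variables keeps the closed fibre Gorenstein. -/

set_option autoImplicit false
universe u

open IsLocalRing Polynomial

namespace Groth.Agent.CohenFact61

/-- `F[X]/(X^N)`. -/
abbrev Step (F : Type u) [CommRing F] (N : ℕ) : Type u := AdjoinRoot (X ^ N : F[X])

theorem root_pow (F : Type u) [CommRing F] (N : ℕ) : AdjoinRoot.root (X ^ N : F[X]) ^ N = 0 := by
  have := AdjoinRoot.eval₂_root (X ^ N : F[X])
  rwa [eval₂_X_pow] at this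

theorem finite (F : Type u) [CommRing F] (N : ℕ) : Module.Finite F (Step F N) :=
  (monic_X_pow N).finite_adjoinRoot

theorem free (F : Type u) [CommRing F] (N : ℕ) : Module.Free F (Step F N) :=
  (monic_X_pow N).free_adjoinRoot

theorem isLocalRing (F : Type u) [CommRing F] [IsLocalRing F] {N : ℕ} (hN : 0 < N) :
    IsLocalRing (Step F N) := by
  let π : Step F N →+* F := AdjoinRoot.lift (RingHom.id F) 0 (by rw [eval₂_X_pow, zero_pow hN.ne'])
  have hπ : ∀ a, π (AdjoinRoot.of _ a) = a := fun a => AdjoinRoot.lift_of _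
  haveI : Nontrivial (Step F N) := π.domain_nontrivial
  refine IsLocalRing.of_isUnit_or_isUnit_one_sub_self fun z => ?_
  have key : ∀ z : Step F N, IsUnit (π z) → IsUnit z := by
    intro z hz
    obtain ⟨p, rfl⟩ := AdjoinRoot.mk_surjective z
    have hd : (X : F[X]) ∣ p - C (p.coeff 0) := by
      rw [X_dvd_iff]; simp
    obtain ⟨q, hq⟩ := hd
    have hp : AdjoinRoot.mk (X ^ N : F[X]) p =
        AdjoinRoot.of _ (p.coeff 0) + AdjoinRoot.root _ * AdjoinRoot.mk _ q := by
      rw [← AdjoinRoot.mk_C, ← AdjoinRoot.mk_X, ← map_mul, ← map_add, ← hq]; ring_nf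
    have hc : IsUnit (p.coeff 0) := by
      rw [hp, map_add, map_mul, hπ, show π (AdjoinRoot.root _) = 0 from AdjoinRoot.lift_root _,
        zero_mul, add_zero] at hz
      exact hz
    rw [hp]
    exact IsNilpotent.isUnit_add_left_of_commute
      ((Commute.all _ _).isNilpotent_mul_right ⟨N, root_pow F N⟩) (hc.map _) (Commute.all _ _)
  rcases IsLocalRing.isUnit_or_isUnit_one_sub_self (π z) with h | h
  · exact Or.inl (key z h)
  · exact Or.inr (key _ (by rwa [map_sub, map_one]))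

theorem injective_field (l : Type u) [Field l] (N : ℕ) : Module.Injective (Step l N) (Step l N) := by
  apply Module.Baer.injective
  intro I g
  obtain ⟨p, hp⟩ := IsPrincipalIdealRing.principal (I.comap (AdjoinRoot.mk (X ^ N : l[X])))
  rw [Ideal.submodule_span_eq] at hp
  have hdvd : p ∣ X ^ N := by
    rw [← Ideal.mem_span_singleton, ← hp, Ideal.mem_comap, AdjoinRoot.mk_self]
    exact I.zero_mem
  obtain ⟨j, hj, hassoc⟩ := (dvd_prime_pow Polynomial.prime_X N).mp hdvd
  rw [Ideal.span_singleton_eq_span_singleton.mpr hassoc] at hp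
  set ξ := AdjoinRoot.mk (X ^ N : l[X]) (X ^ j) with hξdef
  have hξ : ξ ∈ I := by
    have : (X ^ j : l[X]) ∈ I.comap (AdjoinRoot.mk (X ^ N : l[X])) := by
      rw [hp]; exact Ideal.mem_span_singleton_self _
    exact this
  obtain ⟨q, hq⟩ := AdjoinRoot.mk_surjective (g ⟨ξ, hξ⟩)
  have hkill : AdjoinRoot.mk (X ^ N : l[X]) (X ^ (N - j) * q) = 0 := by
    rw [map_mul, hq, ← smul_eq_mul, ← map_smul]
    have : (AdjoinRoot.mk (X ^ N : l[X]) (X ^ (N - j))) • (⟨ξ, hξ⟩ : I) = 0 := by
      apply Subtype.ext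
      show AdjoinRoot.mk _ (X ^ (N - j)) * ξ = 0
      rw [hξdef, ← map_mul, ← pow_add, Nat.sub_add_cancel hj, AdjoinRoot.mk_self]
    rw [this, map_zero]
  have hq' : (X : l[X]) ^ j ∣ q := by
    have h1 : (X : l[X]) ^ (N - j) * X ^ j ∣ X ^ (N - j) * q := by
      rw [← pow_add, Nat.sub_add_cancel hj]
      exact AdjoinRoot.mk_eq_zero.mp hkill
    exact (mul_dvd_mul_iff_left (pow_ne_zero _ X_ne_zero)).mp h1
  obtain ⟨b, hb⟩ := hq'
  refine ⟨LinearMap.mulRight (Step l N) (AdjoinRoot.mk _ b), fun x hx => ?_⟩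
  obtain ⟨a, rfl⟩ := AdjoinRoot.mk_surjective x
  have ha : a ∈ Ideal.span {(X : l[X]) ^ j} := hp ▸ hx
  obtain ⟨c, rfl⟩ := Ideal.mem_span_singleton'.mp ha
  have hx' : (⟨AdjoinRoot.mk (X ^ N : l[X]) (c * X ^ j), hx⟩ : I) = (AdjoinRoot.mk (X ^ N : l[X]) c) • (⟨ξ, hξ⟩ : I) :=
    Subtype.ext ((map_mul (AdjoinRoot.mk (X ^ N : l[X])) c (X ^ j)).trans rfl)
  rw [hx', map_smul, ← hq, hb, smul_eq_mul, LinearMap.mulRight_apply]
  simp only [map_mul]
  ring

theorem gorenstein (F : Type u) [CommRing F] [hF : LocCoh.IsGorensteinLocalRing F] {N : ℕ} (hN : 0 < N) :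
    LocCoh.IsGorensteinLocalRing (Step F N) := by
  haveI := finite F N
  haveI := free F N
  haveI := isLocalRing F hN
  haveI : IsNoetherianRing (Step F N) := IsNoetherianRing.of_finite F (Step F N)
  let π : Step F N →+* F := AdjoinRoot.lift (RingHom.id F) 0 (by rw [eval₂_X_pow, zero_pow hN.ne'])
  haveI : IsLocalHom (algebraMap F (Step F N)) := ⟨fun a ha => by
    have := ha.map π
    rwa [show π (algebraMap F (Step F N) a) = a from AdjoinRoot.lift_of _] at this⟩
  rw [Gor.FlatLocal.gorenstein_flat_local_iff F (Step F N)]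
  refine ⟨hF, ?_⟩
  letI : Field (F ⧸ maximalIdeal F) := Ideal.Quotient.field _
  haveI := isLocalRing (F ⧸ maximalIdeal F) hN
  haveI := finite (F ⧸ maximalIdeal F) N
  haveI : IsNoetherianRing (Step (F ⧸ maximalIdeal F) N) := IsNoetherianRing.of_finite (F ⧸ maximalIdeal F) _
  have hG : LocCoh.IsGorensteinLocalRing (Step (F ⧸ maximalIdeal F) N) :=
    Gor.Basic.gorenstein_of_injective (injective_field _ N)
  refine Gor.FlatLocal.gorenstein_of_ringEquiv ?_ (h := hG)
  exact ((AdjoinRoot.quotEquivQuotMap (X ^ N : F[X]) (maximalIdeal F)).toRingEquiv.trans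
    (Ideal.quotEquivOfEq (by rw [Polynomial.map_pow, Polynomial.map_X]))).symm

/-- The fibre of a step. -/
noncomputable def fibreEquiv (F : Type u) [CommRing F] (I : Ideal F) (N : ℕ) :
    (Step F N ⧸ I.map (algebraMap F (Step F N))) ≃+* Step (F ⧸ I) N :=
  (AdjoinRoot.quotEquivQuotMap (X ^ N : F[X]) I).toRingEquiv.trans
    (Ideal.quotEquivOfEq (by rw [Polynomial.map_pow, Polynomial.map_X]))

end Groth.Agent.CohenFact61
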