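import Groth.Agent.CohenFact61.Box
import Groth.Agent.AdicFS.CohenRing
import Groth.Agent.Nagata.CohenRing
import Groth.Agent.RegLoc.CompleteTrans
import Groth.Agent.Adic.Basic
import Groth.Agent.Adic.SysNoeth

/-! Factorizations of local maps of Artinian rings through flat maps with Gorenstein fibre. -/

set_option autoImplicit false
universe u

open IsLocalRing TensorProduct

namespace Groth.Agent.CohenFact61

/-- A coefficient ring for a field. -/
theorem exists_coeffRing (k : Type u) [Field k] :
    ∃ (W : Type u) (_ : CommRing W) (_ : IsLocalRing W) (_ : IsNoetherianRing W) (_ : IsDomain W)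
      (_ : IsPrincipalIdealRing W) (_ : IsAdicComplete (maximalIdeal W) W),
      EGA41.IsCohenRingEGA W ∧ ∃ π : W →+* k, Function.Surjective π := by
  obtain ⟨p, hchar⟩ := CharP.exists k
  rcases CharP.char_is_prime_or_zero k p with hp | rfl
  · haveI : Fact p.Prime := ⟨hp⟩
    obtain ⟨W, _, _, hW, ⟨e⟩⟩ := Nagata.CohenRing.exists_cohenRing p k
    obtain ⟨hdom, hdvr, hc, h⟩ := hW
    haveI := hdom; haveI := hdvr
    exact ⟨W, inferInstance, inferInstance, inferInstance, inferInstance, inferInstance, hc,
      Or.inr ⟨hdom, hdvr, hc, h⟩, e.toRingHom.comp (residue W), e.surjective.comp residue_surjective⟩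
  · haveI : CharZero k := CharP.charP_to_charZero k
    refine ⟨k, inferInstance, inferInstance, inferInstance, inferInstance, inferInstance, ?_,
      Or.inl ⟨Field.toIsField k, inferInstance⟩, RingHom.id k, Function.surjective_id⟩
    exact Adic.SysNoeth.isAdicComplete_of_pow_eq_bot _ 1 (by rw [pow_one, maximalIdeal_eq_bot])

/-- The maximal ideal of a coefficient ring is generated by the residue characteristic. -/
theorem maximalIdeal_eq (W : Type u) [CommRing W] [IsLocalRing W] (hW : EGA41.IsCohenRingEGA W)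
    {l : Type u} [Field l] (π : W →+* l) [IsLocalHom π] (p : ℕ) [CharP l p] :
    maximalIdeal W = Ideal.span {(p : W)} := by
  have hp0 : (p : W) ∈ maximalIdeal W := fun hu => by
    have := hu.map π
    rw [map_natCast, CharP.cast_eq_zero] at this
    exact not_isUnit_zero this
  rcases hW with ⟨hF, h0⟩ | ⟨hdom, hdvr, -, q, hq, hm⟩
  · letI := hF.toField
    rw [maximalIdeal_eq_bot] at hp0 ⊢
    rw [Ideal.mem_bot.mp hp0, Ideal.span_singleton_zero]
  · have hq0 : (q : l) = 0 := by
      rw [← map_natCast π]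
      by_contra h
      have : IsUnit (q : W) := (isUnit_map_iff π _).mp (Ne.isUnit h)
      have hmem : (q : W) ∈ maximalIdeal W := hm ▸ Ideal.mem_span_singleton_self _
      exact hmem this
    have : p = q := by
      rcases (Nat.dvd_prime hq).mp ((CharP.cast_eq_zero_iff l p q).mp hq0) with h | h
      · exact absurd h (CharP.char_ne_one l p)
      · exact h
    rw [this, hm]

/-- Finite local algebras over complete Noetherian local rings, with Artinian closed fibre, are
complete. -/
theorem isAdicComplete_of_finite (L V : Type u) [CommRing L] [IsLocalRing L] [IsNoetherianRing L]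
    [IsAdicComplete (maximalIdeal L) L] [CommRing V] [IsLocalRing V] [Algebra L V] [Module.Finite L V] :
    IsAdicComplete (maximalIdeal V) V := by
  haveI : IsNoetherianRing V := IsNoetherianRing.of_finite L V
  set I : Ideal V := (maximalIdeal L).map (algebraMap L V) with hI
  haveI : IsAdicComplete I V := by
    haveI := Adic.isAdicComplete_of_finite (maximalIdeal L) (M := V)
    exact (IsAdicComplete.map_algebraMap_iff _ _).mpr inferInstance
  haveI : IsArtinianRing (V ⧸ I) := by
    haveI : Module.Finite (L ⧸ maximalIdeal L) (V ⧸ I) := by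
      haveI : Module.Finite L (V ⧸ I) := Module.Finite.trans V (V ⧸ I)
      exact Module.Finite.of_restrictScalars_finite L _ _
    letI : Field (L ⧸ maximalIdeal L) := Ideal.Quotient.field _
    exact isArtinian_of_tower (L ⧸ maximalIdeal L) inferInstance
  haveI : IsAdicComplete ((maximalIdeal V).map (Ideal.Quotient.mk I)) (V ⧸ I) := by
    have hle : I ≤ maximalIdeal V := le_maximalIdeal fun h => by
      have h2 := IsAdicComplete.le_jacobson_bot I
      rw [h, top_le_iff, Ideal.jacobson_eq_top_iff] at h2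
      exact bot_ne_top h2
    obtain ⟨n, hn⟩ := IsArtinianRing.isNilpotent_jacobson_bot (R := V ⧸ I)
    refine Adic.SysNoeth.isAdicComplete_of_pow_eq_bot _ n (le_bot_iff.mp ?_)
    refine (Ideal.pow_right_mono ?_ n).trans_eq hn
    haveI : Nontrivial (V ⧸ I) := Ideal.Quotient.nontrivial_iff.mpr fun h =>
      (maximalIdeal.isMaximal V).ne_top (top_unique (h ▸ hle))
    haveI : IsLocalRing (V ⧸ I) := IsLocalRing.of_surjective' _ Ideal.Quotient.mk_surjective
    rw [IsLocalRing.jacobson_eq_maximalIdeal ⊥ bot_ne_top,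
      IsLocalRing.map_maximalIdeal_of_surjective _ Ideal.Quotient.mk_surjective]
  exact RegLoc.CompleteTrans.isAdicComplete I (maximalIdeal V)

/-- Adjoin nilpotent variables hitting given nilpotent elements. -/
theorem exists_box (L S : Type u) [CommRing L] [IsLocalRing L] [IsNoetherianRing L] [CommRing S]
    (g : L →+* S) (s : Finset S) (hs : ∀ x ∈ s, IsNilpotent x) :
    ∃ (V : Type u) (_ : CommRing V) (_ : IsLocalRing V) (_ : Algebra L V),
      Module.Finite L V ∧ Module.Free L V ∧
      LocCoh.IsGorensteinLocalRing (V ⧸ (maximalIdeal L).map (algebraMap L V)) ∧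
      ∃ f : V →+* S, f.comp (algebraMap L V) = g ∧ ∀ x ∈ s, ∃ v ∈ maximalIdeal V, f v = x := by
  classical
  induction s using Finset.induction_on with
  | empty =>
    refine ⟨L, inferInstance, inferInstance, Algebra.id L, inferInstance, inferInstance, ?_, g,
      RingHom.ext fun _ => rfl, by simp⟩
    rw [Algebra.algebraMap_self, Ideal.map_id]
    letI : Field (L ⧸ maximalIdeal L) := Ideal.Quotient.field _
    exact Gor.Basic.gorenstein_of_injective (Module.injective_of_isSemisimpleRing _ _)
  | @insert a t hat ih =>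
    obtain ⟨V, _, _, _, hfin, hfree, hG, f, hfg, hgen⟩ := ih fun x hx => hs x (Finset.mem_insert_of_mem hx)
    haveI := hfin; haveI := hfree
    obtain ⟨N₀, hN₀⟩ := hs a (Finset.mem_insert_self _ _)
    set N := N₀ + 1
    have hN : 0 < N := Nat.succ_pos _
    have haN : a ^ N = 0 := pow_eq_zero_of_le (Nat.le_succ _) hN₀
    haveI := finite V N
    haveI := free V N
    haveI hloc := isLocalRing V hN
    let f' : Step V N →+* S := AdjoinRoot.lift f a (by rw [Polynomial.eval₂_X_pow, haN])
    haveI : Module.Finite L (Step V N) := Module.Finite.trans V _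
    haveI : Module.Free L (Step V N) := Module.Free.trans (R := L) (S := V)
    refine ⟨Step V N, inferInstance, hloc, inferInstance, inferInstance, inferInstance, ?_, f', ?_, ?_⟩
    · haveI := hG
      refine Gor.FlatLocal.gorenstein_of_ringEquiv ?_
        (h := gorenstein (V ⧸ (maximalIdeal L).map (algebraMap L V)) hN)
      refine ((Ideal.quotEquivOfEq ?_).trans (fibreEquiv V ((maximalIdeal L).map (algebraMap L V)) N)).symm
      rw [Ideal.map_map, ← IsScalarTower.algebraMap_eq]
    · refine RingHom.ext fun x => ?_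
      rw [RingHom.comp_apply, IsScalarTower.algebraMap_apply L V (Step V N), AdjoinRoot.algebraMap_eq]
      exact (AdjoinRoot.lift_of _).trans (RingHom.congr_fun hfg x)
    · intro x hx
      rcases Finset.mem_insert.mp hx with rfl | hx
      · exact ⟨AdjoinRoot.root _, IsLocalRing.le_maximalIdeal (Ideal.IsPrime.ne_top
          (maximalIdeal.isMaximal _).isPrime) ((maximalIdeal.isMaximal _).isPrime.mem_of_pow_mem N
          (by rw [root_pow]; exact zero_mem _)), AdjoinRoot.lift_root _⟩
      · obtain ⟨v, hv, rfl⟩ := hgen x hx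
        refine ⟨AdjoinRoot.of _ v, fun hu => hv ?_, AdjoinRoot.lift_of _⟩
        have := hu.map (AdjoinRoot.lift (RingHom.id V) 0
          (by rw [Polynomial.eval₂_X_pow, zero_pow hN.ne']) : Step V N →+* V)
        rwa [AdjoinRoot.lift_of] at this

variable {R S : Type u} [CommRing R] [CommRing S] [IsArtinianRing R] [IsLocalRing R]
  [IsArtinianRing S] [IsLocalRing S] [Algebra R S] [IsLocalHom (algebraMap R S)]

theorem main : ∃ (R' : Type u) (_ : CommRing R') (_ : Algebra R R'), IsArtinianRing R' ∧
    IsLocalRing R' ∧ Module.Flat R R' ∧ IsLocalHom (algebraMap R R') ∧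
    LocCoh.IsGorensteinLocalRing (R' ⧸ (maximalIdeal R).map (algebraMap R R')) ∧
    ∃ g : R' →ₐ[R] S, Function.Surjective g := by
  classical
  set k := ResidueField R
  set l := ResidueField S
  obtain ⟨W, _, _, _, _, _, _, hW, πW, hπW⟩ := exists_coeffRing k
  obtain ⟨L, _, _, _, _, _, _, hL, πL, hπL⟩ := exists_coeffRing l
  haveI : IsLocalHom πW := hπW.isLocalHom πW
  haveI : IsLocalHom πL := hπL.isLocalHom πL
  -- completeness of the Artinian rings
  have hcR : IsAdicComplete (maximalIdeal R) R := by
    obtain ⟨n, hn⟩ := IsArtinianRing.isNilpotent_jacobson_bot (R := R)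
    rw [IsLocalRing.jacobson_eq_maximalIdeal ⊥ bot_ne_top] at hn
    exact Adic.SysNoeth.isAdicComplete_of_pow_eq_bot _ n hn
  obtain ⟨nS, hnS⟩ : ∃ n, maximalIdeal S ^ n = ⊥ := by
    obtain ⟨n, hn⟩ := IsArtinianRing.isNilpotent_jacobson_bot (R := S)
    rw [IsLocalRing.jacobson_eq_maximalIdeal ⊥ bot_ne_top] at hn
    exact ⟨n, hn⟩
  have hcS : IsAdicComplete (maximalIdeal S) S := Adic.SysNoeth.isAdicComplete_of_pow_eq_bot _ nS hnS
  -- lifts
  obtain ⟨w, hwloc, hw⟩ : ∃ w : W →+* R, IsLocalHom w ∧ (residue R).comp w = πW := by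
    haveI : IsLocalRing (R ⧸ maximalIdeal R) := inferInstanceAs (IsLocalRing (ResidueField R))
    let π' : W →+* R ⧸ maximalIdeal R := πW
    haveI : IsLocalHom π' := Function.Surjective.isLocalHom π' hπW
    exact AdicFS.CohenRing.exists_lift_of_noetherian hW (maximalIdeal R) (maximalIdeal.isMaximal R).ne_top π'
  obtain ⟨g, hgloc, hg⟩ : ∃ g : L →+* S, IsLocalHom g ∧ (residue S).comp g = πL := by
    haveI : IsLocalRing (S ⧸ maximalIdeal S) := inferInstanceAs (IsLocalRing (ResidueField S))
    let π' : L →+* S ⧸ maximalIdeal S := πL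
    haveI : IsLocalHom π' := Function.Surjective.isLocalHom π' hπL
    exact AdicFS.CohenRing.exists_lift_of_noetherian hL (maximalIdeal S) (maximalIdeal.isMaximal S).ne_top π'
  -- the box
  obtain ⟨gens, hgens⟩ := IsNoetherian.noetherian (maximalIdeal S)
  have hnil : ∀ x ∈ gens, IsNilpotent x := fun x hx => ⟨nS, by
    have := Ideal.pow_mem_pow (hgens ▸ Ideal.subset_span hx : x ∈ maximalIdeal S) nS
    rwa [hnS, Ideal.mem_bot] at this⟩
  obtain ⟨V, _, _, _, hfin, hfree, hG, f, hfg, hgen⟩ := exists_box L S g gens hnil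
  haveI := hfin; haveI := hfree
  haveI : IsNoetherianRing V := IsNoetherianRing.of_finite L V
  haveI : IsAdicComplete (maximalIdeal V) V := isAdicComplete_of_finite L V
  have hfloc : ∀ v ∈ maximalIdeal V, f v ∈ maximalIdeal S := by
    intro v hv
    haveI : Algebra.IsIntegral L V := Algebra.IsIntegral.of_finite L V
    haveI : IsLocalHom g := hgloc
    have hc : (Ideal.comap f (maximalIdeal S)).IsMaximal :=
      Ideal.isMaximal_of_isIntegral_of_isMaximal_comap (R := L) _ (by
        rw [Ideal.comap_comap, hfg, IsLocalRing.maximalIdeal_comap g]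
        exact maximalIdeal.isMaximal L)
    rw [← IsLocalRing.eq_maximalIdeal hc] at hv
    exact hv
  have hfsurj : Function.Surjective f := by
    letI := f.toAlgebra
    let M : Submodule V S := LinearMap.range (Algebra.linearMap V S)
    have hmap : (maximalIdeal V).map f = maximalIdeal S := by
      refine le_antisymm (Ideal.map_le_iff_le_comap.mpr hfloc) ?_
      rw [← hgens, Ideal.submodule_span_eq, Ideal.span_le]
      intro x hx
      obtain ⟨v, hv, rfl⟩ := hgen x hx
      exact Ideal.mem_map_of_mem f hv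
    have h1 : (⊤ : Submodule V S) ≤ M ⊔ maximalIdeal V • ⊤ := by
      intro x _
      obtain ⟨c, hc⟩ := hπL (residue S x)
      rw [← hg, RingHom.comp_apply, eq_comm, ← sub_eq_zero, ← map_sub, residue_eq_zero_iff, ← hmap] at hc
      rw [← add_sub_cancel (g c) x]
      refine add_mem (Submodule.mem_sup_left ⟨algebraMap L V c, RingHom.congr_fun hfg c⟩)
        (Submodule.mem_sup_right ?_)
      rw [Ideal.smul_top_eq_map, Submodule.restrictScalars_mem]
      exact hc
    have hiter : ∀ n, (⊤ : Submodule V S) ≤ M ⊔ maximalIdeal V ^ n • ⊤ := by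
      intro n
      induction n with
      | zero => rw [pow_zero, Ideal.one_eq_top, Submodule.top_smul]; exact le_sup_right
      | succ n ih =>
        refine ih.trans (sup_le le_sup_left ?_)
        refine (Submodule.smul_mono le_rfl h1).trans ?_
        rw [Submodule.smul_sup, ← smul_assoc, smul_eq_mul, ← pow_succ]
        exact sup_le_sup_right Submodule.smul_le_right _
    intro x
    have h2 := hiter nS (Submodule.mem_top (x := x))
    rw [Ideal.smul_top_eq_map, show algebraMap V S = f from rfl, Ideal.map_pow, hmap, hnS,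
      Submodule.restrictScalars_bot, sup_bot_eq] at h2
    obtain ⟨v, hv⟩ := h2
    exact ⟨v, hv⟩
  -- `W → V`
  let eS : V ⧸ RingHom.ker f ≃+* S := RingHom.quotientKerEquivOfSurjective hfsurj
  haveI : IsLocalRing (V ⧸ RingHom.ker f) := eS.symm.isLocalRing
  haveI : IsLocalHom w := hwloc
  haveI : IsLocalHom (eS.symm.toRingHom.comp ((algebraMap R S).comp w)) :=
    ⟨fun x hx => (isUnit_map_iff ((algebraMap R S).comp w) x).mp ((isUnit_map_iff eS.symm _).mp hx)⟩
  obtain ⟨v, hvloc, hv⟩ := AdicFS.CohenRing.exists_lift_of_noetherian hW (RingHom.ker f)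
    (RingHom.ker_ne_top f) (eS.symm.toRingHom.comp ((algebraMap R S).comp w))
  have hfv : ∀ x, f (v x) = algebraMap R S (w x) := fun x => by
    have := congrArg eS (RingHom.congr_fun hv x)
    simp only [RingHom.comp_apply, RingEquiv.toRingHom_eq_coe, RingEquiv.coe_toRingHom,
      RingEquiv.apply_symm_apply] at this
    rw [← this]; rfl
  letI algR : Algebra W R := w.toAlgebra
  letI algV : Algebra W V := v.toAlgebra
  -- residue characteristic
  obtain ⟨p, hpk⟩ := CharP.exists k
  haveI : CharP l p := charP_of_injective_ringHom (f := ResidueField.map (algebraMap R S)) (RingHom.injective _) p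
  have hmW := maximalIdeal_eq W hW πW p
  have hmL := maximalIdeal_eq L hL πL p
  set mV : Ideal V := (maximalIdeal L).map (algebraMap L V) with hmV
  have hmWV : (maximalIdeal W).map v = mV := by
    rw [hmV, hmW, hmL, Ideal.map_span, Ideal.map_span, Set.image_singleton, Set.image_singleton,
      map_natCast, map_natCast]
  -- flatness
  haveI : Module.Flat W V := by
    rw [IsDedekindDomain.flat_iff_torsion_eq_bot, ← Submodule.isTorsionFree_iff_torsion_eq_bot,
      Module.isTorsionFree_iff_smul_eq_zero]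
    intro c x hcx
    by_cases hc : c = 0
    · exact Or.inl hc
    refine Or.inr ?_
    by_cases hp : maximalIdeal W = ⊥
    · obtain ⟨d, hd⟩ := (IsLocalRing.notMem_maximalIdeal.mp (by rw [hp, Ideal.mem_bot]; exact hc) : IsUnit c)
      have h1 := congrArg (fun y => ((d⁻¹ : Wˣ) : W) • y) hcx
      simpa [smul_smul, ← hd] using h1
    · have hpW : (p : W) ≠ 0 := fun h => hp (by rw [hmW, h, Ideal.span_singleton_zero])
      have hirr : Irreducible (p : W) := by
        haveI : IsDiscreteValuationRing W := { not_a_field' := hp }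
        exact (IsDiscreteValuationRing.irreducible_iff_uniformizer _).mpr hmW
      haveI : IsDiscreteValuationRing W := { not_a_field' := hp }
      obtain ⟨j, d, rfl⟩ := IsDiscreteValuationRing.eq_unit_mul_pow_irreducible hc hirr
      have hpL : (p : L) ≠ 0 := by
        rcases hL with ⟨hF, h0⟩ | ⟨_, hdvr, -, -⟩
        · haveI := h0
          have : p ≠ 0 := by
            rintro rfl
            exact hpW Nat.cast_zero
          exact Nat.cast_ne_zero.mpr this
        · intro h
          rw [h, Ideal.span_singleton_zero] at hmL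
          exact IsDiscreteValuationRing.not_a_field L hmL
      have h1 := congrArg (fun y => ((d : Wˣ)⁻¹ : Wˣ) • y) hcx
      simp only [smul_zero] at h1
      rw [Units.smul_def, smul_smul, ← mul_assoc, Units.inv_mul, one_mul, Algebra.smul_def, map_pow,
        map_natCast, ← map_natCast (algebraMap L V), ← map_pow, ← Algebra.smul_def] at h1
      exact (smul_eq_zero.mp h1).resolve_left (pow_ne_zero _ hpL)
  -- `R' = R ⊗ V`
  letI algS : Algebra W S := ((algebraMap R S).comp w).toAlgebra
  haveI : IsScalarTower W R S := IsScalarTower.of_algebraMap_eq fun _ => rfl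
  let F : V →ₐ[W] S := { f with commutes' := fun x => hfv x }
  let q : R ⊗[W] V →ₐ[R] S :=
    Algebra.TensorProduct.lift (Algebra.ofId R S) F (fun _ _ => Commute.all _ _)
  have hq : ∀ x, q (1 ⊗ₜ[W] x) = f x := fun x => by
    show Algebra.TensorProduct.lift _ _ _ ((1 : R) ⊗ₜ[W] x) = _
    rw [Algebra.TensorProduct.lift_tmul, map_one, one_mul]
    rfl
  have hqsurj : Function.Surjective q := fun y => by
    obtain ⟨x, rfl⟩ := hfsurj y
    exact ⟨_, hq x⟩
  haveI : IsLocalHom w := hwloc
  set m := maximalIdeal R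
  set J : Ideal (R ⊗[W] V) := m.map (algebraMap R (R ⊗[W] V)) with hJ
  have hmW' : (maximalIdeal W).map v ≤ mV := hmWV.le
  -- `R / m → V / mV`
  have hker : ∀ x : W, w x ∈ m ↔ x ∈ maximalIdeal W := fun x =>
    ⟨fun h hu => h (hu.map w), fun h hu => h ((isUnit_map_iff w x).mp hu)⟩
  let e₀ : (W ⧸ maximalIdeal W) →+* (R ⧸ m) :=
    Ideal.quotientMap m w (fun x hx => (hker x).mpr hx)
  have he₀ : Function.Bijective e₀ := by
    constructor
    · rw [injective_iff_map_eq_zero]
      intro z hz
      obtain ⟨x, rfl⟩ := Ideal.Quotient.mk_surjective z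
      exact Ideal.Quotient.eq_zero_iff_mem.mpr ((hker x).mp (Ideal.Quotient.eq_zero_iff_mem.mp hz))
    · intro z
      obtain ⟨x, hx⟩ := hπW z
      exact ⟨Ideal.Quotient.mk _ x, (RingHom.congr_fun hw x).trans hx⟩
  let e₁ : (W ⧸ maximalIdeal W) →+* (V ⧸ mV) :=
    Ideal.quotientMap mV v (fun x hx => hmW' (Ideal.mem_map_of_mem v hx))
  let r₀ : R →+* V ⧸ mV :=
    (e₁.comp
      (RingEquiv.ofBijective e₀ he₀).symm.toRingHom).comp (Ideal.Quotient.mk m)
  have hr₀ : ∀ x : W, r₀ (w x) = Ideal.Quotient.mk mV (v x) := fun x => by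
    show e₁ ((RingEquiv.ofBijective e₀ he₀).symm (Ideal.Quotient.mk m (w x))) = _
    rw [show Ideal.Quotient.mk m (w x) = RingEquiv.ofBijective e₀ he₀ (Ideal.Quotient.mk _ x) from rfl,
      RingEquiv.symm_apply_apply]
    rfl
  let r₁ : R →ₐ[W] V ⧸ mV := { r₀ with commutes' := fun x => hr₀ x }
  let v₁ : V →ₐ[W] V ⧸ mV := Ideal.Quotient.mkₐ W mV
  let ψ : R ⊗[W] V →ₐ[W] V ⧸ mV :=
    Algebra.TensorProduct.lift r₁ v₁ (fun _ _ => Commute.all _ _)
  have hψ : ∀ r x, ψ (r ⊗ₜ[W] x) = r₀ r * Ideal.Quotient.mk mV x := fun r x =>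
    Algebra.TensorProduct.lift_tmul _ _ _ _ _
  have hψsurj : Function.Surjective ψ := fun z => by
    obtain ⟨x, rfl⟩ := Ideal.Quotient.mk_surjective z
    exact ⟨1 ⊗ₜ x, by rw [hψ, map_one, one_mul]⟩
  have hrep : ∀ t : R ⊗[W] V, ∃ x, t - (1 : R) ⊗ₜ[W] x ∈ J := by
    intro t
    induction t using TensorProduct.induction_on with
    | zero => exact ⟨0, by rw [TensorProduct.tmul_zero, sub_zero]; exact zero_mem _⟩
    | tmul r y =>
      obtain ⟨c, hc⟩ := hπW (residue R r)
      have hmu : r - w c ∈ m := by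
        rw [← residue_eq_zero_iff, map_sub, ← hc, ← hw, RingHom.comp_apply, sub_self]
      refine ⟨c • y, ?_⟩
      rw [← TensorProduct.smul_tmul, show (c • (1 : R)) = w c by rw [Algebra.smul_def, mul_one]; rfl,
        ← TensorProduct.sub_tmul,
        show (r - w c) ⊗ₜ[W] y = ((1 : R) ⊗ₜ[W] y) * algebraMap R (R ⊗[W] V) (r - w c) by
          rw [Algebra.TensorProduct.algebraMap_apply, Algebra.TensorProduct.tmul_mul_tmul, one_mul, mul_one]
          rfl]
      exact Ideal.mul_mem_left _ _ (Ideal.mem_map_of_mem _ hmu)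
    | add a b ha hb =>
      obtain ⟨x, hx⟩ := ha
      obtain ⟨y, hy⟩ := hb
      exact ⟨x + y, by rw [TensorProduct.tmul_add, add_sub_add_comm]; exact add_mem hx hy⟩
  have hψker : RingHom.ker ψ = J := by
    have hJle : J ≤ RingHom.ker ψ := by
      refine Ideal.map_le_iff_le_comap.mpr fun r hr => ?_
      show ψ (r ⊗ₜ[W] (1 : V)) = 0
      rw [hψ, show r₀ r = 0 from by
        show e₁ ((RingEquiv.ofBijective e₀ he₀).symm (Ideal.Quotient.mk m r)) = 0
        rw [Ideal.Quotient.eq_zero_iff_mem.mpr hr, map_zero, map_zero], zero_mul]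
    refine le_antisymm (fun t ht => ?_) hJle
    obtain ⟨x, hx⟩ := hrep t
    have hx0 : x ∈ mV := by
      rw [← Ideal.Quotient.eq_zero_iff_mem]
      have h1 := hJle hx
      rw [RingHom.mem_ker, map_sub, RingHom.mem_ker.mp ht, hψ, map_one, one_mul, zero_sub, neg_eq_zero] at h1
      exact h1
    have hx1 : (1 : R) ⊗ₜ[W] x ∈ J := by
      have h2 : x ∈ Ideal.comap (Algebra.TensorProduct.includeRight (R := W) (A := R) (B := V)).toRingHom J := by
        refine (?_ : mV ≤ _) hx0
        rw [← hmWV, Ideal.map_le_iff_le_comap]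
        intro c hc
        show (1 : R) ⊗ₜ[W] (algebraMap W V c) ∈ J
        rw [← Algebra.TensorProduct.algebraMap_apply', IsScalarTower.algebraMap_apply W R (R ⊗[W] V)]
        exact Ideal.mem_map_of_mem _ ((hker c).mpr hc)
      exact h2
    have := add_mem hx hx1
    rwa [sub_add_cancel] at this
  let eψ : ((R ⊗[W] V) ⧸ J) ≃+* V ⧸ mV :=
    (Ideal.quotEquivOfEq hψker.symm).trans (RingHom.quotientKerEquivOfSurjective hψsurj)
  haveI hG' : LocCoh.IsGorensteinLocalRing ((R ⊗[W] V) ⧸ J) :=
    Gor.FlatLocal.gorenstein_of_ringEquiv eψ.symm (h := hG)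
  obtain ⟨nR, hnR⟩ : ∃ n, m ^ n = ⊥ := by
    obtain ⟨n, hn⟩ := IsArtinianRing.isNilpotent_jacobson_bot (R := R)
    rw [IsLocalRing.jacobson_eq_maximalIdeal ⊥ bot_ne_top] at hn
    exact ⟨n, hn⟩
  have hJn : J ^ nR = ⊥ := by rw [hJ, ← Ideal.map_pow, hnR, Ideal.map_bot]
  haveI hloc : IsLocalRing (R ⊗[W] V) := by
    have hmax : (Ideal.comap (Ideal.Quotient.mk J) (maximalIdeal ((R ⊗[W] V) ⧸ J))).IsMaximal :=
      Ideal.comap_isMaximal_of_surjective _ Ideal.Quotient.mk_surjective
    refine IsLocalRing.of_unique_max_ideal ⟨_, hmax, fun P hP => ?_⟩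
    have hJP : J ≤ P := hP.isPrime.le_of_pow_le (n := nR) (hJn ▸ bot_le)
    haveI := hP
    have := Ideal.IsMaximal.map_of_surjective_of_ker_le (f := Ideal.Quotient.mk J) (m := P)
      Ideal.Quotient.mk_surjective (by rw [Ideal.mk_ker]; exact hJP)
    rw [← IsLocalRing.eq_maximalIdeal this, Ideal.comap_map_of_surjective' _ Ideal.Quotient.mk_surjective,
      Ideal.mk_ker, sup_eq_left.mpr hJP]
  haveI : IsArtinianRing ((R ⊗[W] V) ⧸ J) := by
    haveI : IsArtinianRing (V ⧸ mV) := by
      haveI : Module.Finite L (V ⧸ mV) := Module.Finite.trans V (V ⧸ mV)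
      haveI : Module.Finite (L ⧸ maximalIdeal L) (V ⧸ mV) := Module.Finite.of_restrictScalars_finite L _ _
      letI : Field (L ⧸ maximalIdeal L) := Ideal.Quotient.field _
      exact isArtinian_of_tower (L ⧸ maximalIdeal L) inferInstance
    exact eψ.symm.surjective.isArtinianRing
  haveI hNoeth : IsNoetherianRing (R ⊗[W] V) := by
    refine IsNoetherianRing.of_prime fun P hP => ?_
    have hJP : J ≤ P := hP.le_of_pow_le (n := nR) (hJn ▸ bot_le)
    have hJfg : J.FG := Ideal.FG.map (IsNoetherian.noetherian m) _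
    have h2 : (P.map (Ideal.Quotient.mk J)).FG := IsNoetherian.noetherian _
    obtain ⟨T, hT⟩ := h2
    obtain ⟨T', hT'⟩ := hJfg
    choose lift hlift using Ideal.Quotient.mk_surjective (I := J)
    refine ⟨T.image lift ∪ T', ?_⟩
    show Ideal.span _ = P
    rw [Finset.coe_union, Ideal.span_union, show Ideal.span (T' : Set _) = J from hT', Finset.coe_image]
    have h3 : (Ideal.span (lift '' (T : Set _))).map (Ideal.Quotient.mk J) = P.map (Ideal.Quotient.mk J) := by
      rw [Ideal.map_span, Set.image_image]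
      simp only [hlift, Set.image_id']
      exact hT
    have h4 := congrArg (Ideal.comap (Ideal.Quotient.mk J)) h3
    rw [Ideal.comap_map_of_surjective' _ Ideal.Quotient.mk_surjective,
      Ideal.comap_map_of_surjective' _ Ideal.Quotient.mk_surjective, Ideal.mk_ker,
      sup_eq_left.mpr hJP] at h4
    exact h4
  haveI : Ring.KrullDimLE 0 (R ⊗[W] V) := by
    refine Ring.krullDimLE_zero_iff.mpr fun P hP => ?_
    have hJP : J ≤ P := hP.le_of_pow_le (n := nR) (hJn ▸ bot_le)
    haveI := hP
    haveI : (P.map (Ideal.Quotient.mk J)).IsPrime := Ideal.map_isPrime_of_surjective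
      Ideal.Quotient.mk_surjective (by rw [Ideal.mk_ker]; exact hJP)
    haveI hmx : (P.map (Ideal.Quotient.mk J)).IsMaximal := IsArtinianRing.isMaximal_of_isPrime _
    have := Ideal.comap_isMaximal_of_surjective (Ideal.Quotient.mk J) Ideal.Quotient.mk_surjective
      (K := P.map (Ideal.Quotient.mk J))
    rwa [Ideal.comap_map_of_surjective' _ Ideal.Quotient.mk_surjective, Ideal.mk_ker, sup_eq_left.mpr hJP] at this
  refine ⟨R ⊗[W] V, inferInstance, inferInstance,
    isArtinianRing_iff_isNoetherianRing_krullDimLE_zero.mpr ⟨inferInstance, inferInstance⟩, hloc,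
    inferInstance, ⟨fun r hr => ?_⟩, hG', q, hqsurj⟩
  by_contra hu
  have h1 : algebraMap R (R ⊗[W] V) r ∈ J := Ideal.mem_map_of_mem _ hu
  have h2 : J ≤ maximalIdeal (R ⊗[W] V) := le_maximalIdeal fun h => by
    rw [h] at hJn
    exact top_ne_bot ((Ideal.top_pow (R ⊗[W] V) nR).symm.trans hJn)
  exact h2 h1 hr

end Groth.Agent.CohenFact61
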